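import Mathlib

set_option autoImplicit false

namespace Cfsg.Agent.Lib.Helper39

/-- companion matrix with trace `t` and determinant `d`. -/
def compMat {F : Type*} [Field F] (t d : F) : Matrix (Fin 2) (Fin 2) F := !![0, -d; 1, t]

theorem compMat_det {F : Type*} [Field F] (t d : F) : (compMat t d).det = d := by
  simp [compMat, Matrix.det_fin_two]

theorem compMat_trace {F : Type*} [Field F] (t d : F) : (compMat t d).trace = t := by
  simp [compMat, Matrix.trace_fin_two]

/-- A 2×2 matrix is scalar. -/
def IsScalar2 {F : Type*} [Field F] (g : Matrix (Fin 2) (Fin 2) F) : Prop :=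
  g 0 1 = 0 ∧ g 1 0 = 0 ∧ g 0 0 = g 1 1

theorem exists_conj_compMat {F : Type*} [Field F] (g : Matrix (Fin 2) (Fin 2) F)
    (hg : ¬ IsScalar2 g) :
    ∃ P : Matrix (Fin 2) (Fin 2) F, P.det ≠ 0 ∧ g * P = P * compMat g.trace g.det := by
  by_cases hc : g 1 0 = 0
  · by_cases hb : g 0 1 = 0
    · have hd : g 0 0 ≠ g 1 1 := fun h => hg ⟨hb, hc, h⟩
      refine ⟨!![1, g 0 0; 1, g 1 1], ?_, ?_⟩
      · simp only [Matrix.det_fin_two_of]
        intro h
        apply hd
        linear_combination -h
      · ext i j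
        fin_cases i <;> fin_cases j <;>
          simp [compMat, Matrix.mul_apply, Fin.sum_univ_two, Matrix.det_fin_two,
            Matrix.trace_fin_two, hb, hc] <;> ring
    · refine ⟨!![0, g 0 1; 1, g 1 1], ?_, ?_⟩
      · simp only [Matrix.det_fin_two_of]
        simpa using hb
      · ext i j
        fin_cases i <;> fin_cases j <;>
          simp [compMat, Matrix.mul_apply, Fin.sum_univ_two, Matrix.det_fin_two,
            Matrix.trace_fin_two, hc] <;> ring
  · refine ⟨!![1, g 0 0; 0, g 1 0], ?_, ?_⟩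
    · simp only [Matrix.det_fin_two_of]
      simpa using hc
    · ext i j
      fin_cases i <;> fin_cases j <;>
        simp [compMat, Matrix.mul_apply, Fin.sum_univ_two, Matrix.det_fin_two,
          Matrix.trace_fin_two] <;> ring

/-- companion matrix as an element of `GL₂`. -/
noncomputable def compGL {F : Type*} [Field F] (t : F) (d : Fˣ) :
    Matrix.GeneralLinearGroup (Fin 2) F :=
  Matrix.GeneralLinearGroup.mkOfDetNeZero (compMat t d) (by rw [compMat_det]; exact d.ne_zero)

theorem compGL_coe {F : Type*} [Field F] (t : F) (d : Fˣ) :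
    (compGL t d : Matrix (Fin 2) (Fin 2) F) = compMat t d := rfl

theorem isConj_compGL {F : Type*} [Field F] (g : Matrix.GeneralLinearGroup (Fin 2) F)
    (hg : ¬ IsScalar2 (g : Matrix (Fin 2) (Fin 2) F)) :
    IsConj g (compGL (g : Matrix (Fin 2) (Fin 2) F).trace (Matrix.GeneralLinearGroup.det g)) := by
  obtain ⟨P, hP, h⟩ := exists_conj_compMat (g : Matrix (Fin 2) (Fin 2) F) hg
  set P' := Matrix.GeneralLinearGroup.mkOfDetNeZero P hP with hP'
  have h' : g * P' = P' * compGL (g : Matrix (Fin 2) (Fin 2) F).trace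
      (Matrix.GeneralLinearGroup.det g) := by
    apply Units.ext
    exact h
  rw [isConj_iff]
  refine ⟨P'⁻¹, ?_⟩
  rw [inv_inv, mul_assoc, h', inv_mul_cancel_left]

theorem trace_conj_GL {F : Type*} [Field F] (c g : Matrix.GeneralLinearGroup (Fin 2) F) :
    ((c * g * c⁻¹ : Matrix.GeneralLinearGroup (Fin 2) F) : Matrix (Fin 2) (Fin 2) F).trace =
      (g : Matrix (Fin 2) (Fin 2) F).trace := by
  rw [Units.val_mul, Units.val_mul, Matrix.trace_mul_comm, ← mul_assoc, ← Units.val_mul,
    inv_mul_cancel, Units.val_one, one_mul]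

theorem not_isScalar2_compMat {F : Type*} [Field F] (t d : F) : ¬ IsScalar2 (compMat t d) := by
  intro h
  have := h.2.1
  simp [compMat] at this

end Cfsg.Agent.Lib.Helper39
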